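import Groth.Agent.L09.PiHensel.Point
import Groth.Agent.L09.UnivThick.Coprod
import Mathlib.Algebra.Group.Pi.Units

/-!
# Points of algebraic spaces over products of henselian local rings
-/

set_option autoImplicit false
set_option linter.style.haveILetI false
set_option backward.isDefEq.respectTransparency false
set_option backward.isDefEq.respectTransparency.types false
set_option maxHeartbeats 1000000

universe u

open CategoryTheory CategoryTheory.Limits AlgebraicGeometry AlgSp Polynomial TensorProduct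

noncomputable section

namespace Groth.L09.PiHensel

open Groth.L23 Groth.L09.Filtration

variable {S : Scheme.{u}} {J : Type u} {A : J → Type u} [∀ j, CommRing (A j)]
  (h : Spec (CommRingCat.of (∀ j, A j)) ⟶ S)

/-- The inclusion of a factor. -/
abbrev evT (j : J) : Over.mk (leg (Pi.evalRingHom A) j ≫ h) ⟶ Over.mk h :=
  Over.homMk (leg (Pi.evalRingHom A) j) rfl

/-- A lift of a component along the chart. -/
def Data {U : Over S} {X : Sp S} (φ : (yon S).obj U ⟶ X) {R : Type u} [CommRing R]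
    (l : Spec (CommRingCat.of R) ⟶ S) (g : (yon S).obj (Over.mk l) ⟶ X) (F : R[X]) : Prop :=
  IsUnit (AdjoinRoot.mk F (derivative F)) ∧ IsLocalRing (AdjoinRoot F) ∧
    ∃ a : Over.mk (Spec.map (CommRingCat.ofHom (AdjoinRoot.of F)) ≫ l) ⟶ U,
      (yon S).map a ≫ φ = (yon S).map (Over.homMk (Spec.map (CommRingCat.ofHom (AdjoinRoot.of F))) rfl :
          Over.mk (Spec.map (CommRingCat.ofHom (AdjoinRoot.of F)) ≫ l) ⟶ Over.mk l) ≫ g

theorem injective_of {R : Type u} [CommRing R] {F : R[X]} (hF : F.Monic) [Nontrivial (AdjoinRoot F)] :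
    Function.Injective (AdjoinRoot.of F) := by
  refine (injective_iff_map_eq_zero _).2 fun r hr => ?_
  rw [← AdjoinRoot.mk_C, AdjoinRoot.mk_eq_zero] at hr
  by_contra hr0
  have hd : 0 < F.natDegree := by
    refine Nat.pos_of_ne_zero fun h0 => ?_
    have h1 : AdjoinRoot.mk F F = 0 := AdjoinRoot.mk_self
    obtain rfl := hF.natDegree_eq_zero.1 h0
    exact one_ne_zero ((map_one _).symm.trans h1)
  exact hF.not_dvd_of_natDegree_lt (by simpa using hr0) (by rw [natDegree_C]; exact hd) hr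

/-- Compatible points glue when the lifting polynomials come from one monic polynomial over the product. -/
theorem exists_point_of_poly [IsAffine S] [∀ j, HenselianLocalRing (A j)] {X : Sp S} (hX : IsAlgSpace X)
    (hqs : IsQuasiSeparatedSp X) {U : Over S} [IsAffine U.left] (φ : (yon S).obj U ⟶ X)
    (g : ∀ j, (yon S).obj (Over.mk (leg (Pi.evalRingHom A) j ≫ h)) ⟶ X) {G : (∀ j, A j)[X]} (hG : G.Monic)
    (hd : ∀ j, Data φ (leg (Pi.evalRingHom A) j ≫ h) (g j) (G.map (Pi.evalRingHom A j))) :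
    ∃ g₀ : (yon S).obj (Over.mk h) ⟶ X, ∀ j, (yon S).map (evT h j) ≫ g₀ = g j := by
  classical
  choose hu hloc a ha using hd
  haveI := hloc
  let π : ∀ j, AdjoinRoot G →+* AdjoinRoot (G.map (Pi.evalRingHom A j)) := comp G
  have hπ : Function.Bijective fun x j => π j x := bijective_comp hG
  obtain ⟨w, hw⟩ := exists_map π hπ fun j => (a j).left
  let b := Spec.map (CommRingCat.ofHom (AdjoinRoot.of G))
  have hb : ∀ j, leg π j ≫ b =
      Spec.map (CommRingCat.ofHom (AdjoinRoot.of (G.map (Pi.evalRingHom A j)))) ≫ leg (Pi.evalRingHom A) j := fun j => by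
    rw [← Spec.map_comp, ← Spec.map_comp]
    refine congrArg Spec.map (CommRingCat.hom_ext (RingHom.ext fun x => ?_))
    exact comp_of G j x
  let TB : Over S := Over.mk (b ≫ h)
  have hwS : w ≫ U.hom = b ≫ h := ext_affine π hπ.1 _ _ fun j =>
    ((Category.assoc _ _ _).symm.trans (congrArg (· ≫ U.hom) (hw j))).trans ((Over.w (a j)).trans
      ((Category.assoc _ _ _).symm.trans ((congrArg (· ≫ h) (hb j).symm).trans (Category.assoc _ _ _))))
  let aT : TB ⟶ U := Over.homMk w hwS
  let bT : TB ⟶ Over.mk h := Over.homMk b rfl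
  let lj : ∀ j, Over.mk (Spec.map (CommRingCat.ofHom (AdjoinRoot.of (G.map (Pi.evalRingHom A j)))) ≫
      leg (Pi.evalRingHom A) j ≫ h) ⟶ TB := fun j => Over.homMk (leg π j) (by
    show leg π j ≫ b ≫ h = _
    rw [← Category.assoc, hb, Category.assoc]
    rfl)
  have hlj : ∀ j, lj j ≫ aT = a j := fun j => Over.OverMorphism.ext (hw j)
  have het : Algebra.Etale (∀ j, A j) (AdjoinRoot G) := by
    refine etale_adjoinRoot hG ?_
    let e := RingEquiv.ofBijective (RingHom.pi π) hπ
    refine (isUnit_map_iff e _).1 (Pi.isUnit_iff.2 fun j => ?_)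
    show IsUnit (comp G j (AdjoinRoot.mk G (derivative G)))
    rw [comp_mk, ← derivative_map]
    exact hu j
  haveI : Etale b := HasRingHomProperty.Spec_iff.2 (RingHom.etale_algebraMap.2 het)
  haveI : Surjective b := ⟨by
    have hinj : Function.Injective (AdjoinRoot.of G) := (injective_iff_map_eq_zero _).2 fun x hx => funext fun j => by
      refine injective_of (hG.map (Pi.evalRingHom A j)) (Eq.trans (comp_of G j x).symm ?_)
      simp [hx]
    haveI : Module.Finite (∀ j, A j) (AdjoinRoot G) := hG.finite_adjoinRoot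
    exact (RingHom.IsIntegral.comap_surjective (RingHom.IsIntegral.of_finite (RingHom.finite_algebraMap.2 ‹_›)) hinj)⟩
  -- agreement on the double overlap
  let i₁ : AdjoinRoot G →+* AdjoinRoot G ⊗[∀ j, A j] AdjoinRoot G := Algebra.TensorProduct.includeLeftRingHom
  let i₂ : AdjoinRoot G →+* AdjoinRoot G ⊗[∀ j, A j] AdjoinRoot G :=
    (Algebra.TensorProduct.includeRight (R := ∀ j, A j)).toRingHom
  let b₂ := Spec.map (CommRingCat.ofHom (algebraMap (∀ j, A j) (AdjoinRoot G ⊗[∀ j, A j] AdjoinRoot G)))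
  have hi₁ : i₁.comp (AdjoinRoot.of G) = algebraMap _ _ := rfl
  have hi₂ : i₂.comp (AdjoinRoot.of G) = algebraMap _ _ :=
    (Algebra.TensorProduct.includeRight (R := ∀ j, A j) (A := AdjoinRoot G) (B := AdjoinRoot G)).comp_algebraMap
  let TC : Over S := Over.mk (b₂ ≫ h)
  let P : ∀ i : AdjoinRoot G →+* AdjoinRoot G ⊗[∀ j, A j] AdjoinRoot G, i.comp (AdjoinRoot.of G) = algebraMap _ _ →
      (TC ⟶ TB) := fun i hi => Over.homMk (Spec.map (CommRingCat.ofHom i)) (by
    show _ ≫ b ≫ h = b₂ ≫ h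
    rw [← Category.assoc, ← Spec.map_comp, ← CommRingCat.ofHom_comp, hi])
  let bas := (AdjoinRoot.powerBasis' hG).basis
  obtain ⟨K, idx, L, _, _, ρ, hρ, hγ⟩ := exists_local_family (A := A) (AdjoinRoot G ⊗[∀ j, A j] AdjoinRoot G)
    ((bas.tensorProduct bas).reindex Equiv.ulift.{u, 0}.symm)
  have key : (yon S).map (P i₁ hi₁) ≫ (yon S).map aT ≫ φ = (yon S).map (P i₂ hi₂) ≫ (yon S).map aT ≫ φ := by
    refine ext_space ρ hρ hX hqs (b₂ ≫ h) _ _ fun k => ?_
    obtain ⟨γ, hγk⟩ := hγ k
    have hS : leg ρ k ≫ b₂ = Spec.map (CommRingCat.ofHom γ) ≫ leg (Pi.evalRingHom A) (idx k) := by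
      rw [← Spec.map_comp, ← Spec.map_comp, ← CommRingCat.ofHom_comp, hγk]
      rfl
    let γT : Over.mk (leg ρ k ≫ b₂ ≫ h) ⟶ Over.mk (leg (Pi.evalRingHom A) (idx k) ≫ h) :=
      Over.homMk (Spec.map (CommRingCat.ofHom γ)) (by
        show _ ≫ _ ≫ h = leg ρ k ≫ b₂ ≫ h
        rw [← Category.assoc, ← hS, Category.assoc])
    have main : ∀ (i : AdjoinRoot G →+* AdjoinRoot G ⊗[∀ j, A j] AdjoinRoot G) (hi : i.comp (AdjoinRoot.of G) = algebraMap _ _),
        (yon S).map (Over.homMk (leg ρ k) rfl : Over.mk (leg ρ k ≫ b₂ ≫ h) ⟶ TC) ≫ (yon S).map (P i hi) ≫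
          (yon S).map aT ≫ φ = (yon S).map γT ≫ g (idx k) := by
      intro i hi
      obtain ⟨h', h'of, h'comp⟩ := exists_factor ((ρ k).comp i) γ (by rw [RingHom.comp_assoc, hi, hγk])
      have h'b : Spec.map (CommRingCat.ofHom h') ≫
          Spec.map (CommRingCat.ofHom (AdjoinRoot.of (G.map (Pi.evalRingHom A (idx k))))) =
            Spec.map (CommRingCat.ofHom γ) := by
        rw [← Spec.map_comp, ← CommRingCat.ofHom_comp, h'of]
      let hT : Over.mk (leg ρ k ≫ b₂ ≫ h) ⟶ Over.mk (Spec.map (CommRingCat.ofHom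
          (AdjoinRoot.of (G.map (Pi.evalRingHom A (idx k))))) ≫ leg (Pi.evalRingHom A) (idx k) ≫ h) :=
        Over.homMk (Spec.map (CommRingCat.ofHom h')) (by
          show _ ≫ _ ≫ _ ≫ h = leg ρ k ≫ b₂ ≫ h
          rw [← Category.assoc, h'b, ← Category.assoc, ← hS, Category.assoc])
      have h1 : (Over.homMk (leg ρ k) rfl : Over.mk (leg ρ k ≫ b₂ ≫ h) ⟶ TC) ≫ P i hi = hT ≫ lj (idx k) :=
        Over.OverMorphism.ext (by
          show leg ρ k ≫ Spec.map (CommRingCat.ofHom i) = Spec.map (CommRingCat.ofHom h') ≫ leg π (idx k)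
          rw [← Spec.map_comp, ← Spec.map_comp, ← CommRingCat.ofHom_comp, ← CommRingCat.ofHom_comp, h'comp])
      rw [← Functor.map_comp_assoc, h1, Functor.map_comp_assoc, ← Functor.map_comp_assoc (yon S) (lj (idx k)) aT,
        hlj, ha, ← Functor.map_comp_assoc]
      congr 2
      exact Over.OverMorphism.ext h'b
    exact (main i₁ hi₁).trans (main i₂ hi₂).symm
  obtain ⟨g₀, hg₀⟩ := exists_glue_etale (R := Over.mk h) (fun _ : PUnit.{u + 1} => TB) (fun _ => bT)
    (fun _ => ‹Etale b›) (fun x => ⟨PUnit.unit, b.surjective x⟩) (fun _ => (yon S).map aT ≫ φ) (fun _ _ W p q hpq => by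
      have e : p.left ≫ b = q.left ≫ b := congrArg CommaMorphism.left hpq
      let l := pullback.lift p.left q.left e ≫ (pullbackSpecIso (∀ j, A j) (AdjoinRoot G) (AdjoinRoot G)).hom
      have l1 : l ≫ Spec.map (CommRingCat.ofHom i₁) = p.left := by
        show (_ ≫ _) ≫ _ = _
        rw [Category.assoc, ← pullbackSpecIso_inv_fst (∀ j, A j) (AdjoinRoot G) (AdjoinRoot G), Iso.hom_inv_id_assoc,
          ]
        exact pullback.lift_fst _ _ _
      have l2 : l ≫ Spec.map (CommRingCat.ofHom i₂) = q.left := by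
        show (_ ≫ _) ≫ _ = _
        have e2 : (pullbackSpecIso (∀ j, A j) (AdjoinRoot G) (AdjoinRoot G)).hom ≫ Spec.map (CommRingCat.ofHom i₂) =
            pullback.snd _ _ := by
          rw [← Iso.eq_inv_comp, pullbackSpecIso_inv_snd]
          rfl
        rw [Category.assoc, e2]
        exact pullback.lift_snd _ _ _
      let lT : W ⟶ TC := Over.homMk l (by
        show l ≫ b₂ ≫ h = W.hom
        rw [show b₂ = Spec.map (CommRingCat.ofHom i₁) ≫ b by rw [← Spec.map_comp]; rfl, Category.assoc]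
        exact (Category.assoc _ _ _).symm.trans ((congrArg (· ≫ b ≫ h) l1).trans (Over.w p)))
      rw [show p = lT ≫ P i₁ hi₁ from Over.OverMorphism.ext l1.symm,
        show q = lT ≫ P i₂ hi₂ from Over.OverMorphism.ext l2.symm, Functor.map_comp_assoc, Functor.map_comp_assoc, key])
  refine ⟨g₀, fun j => ?_⟩
  let eB : Over.mk (Spec.map (CommRingCat.ofHom (AdjoinRoot.of (G.map (Pi.evalRingHom A j)))) ≫
      leg (Pi.evalRingHom A) j ≫ h) ⟶ Over.mk (leg (Pi.evalRingHom A) j ≫ h) := Over.homMk _ rfl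
  have hej : eB ≫ evT h j = lj j ≫ bT := Over.OverMorphism.ext (hb j).symm
  refine ext_of_etale_nhds _ _ fun x => ⟨_, eB, ?_, ?_, ?_⟩
  · show Etale (Spec.map _)
    rw [HasRingHomProperty.Spec_iff (P := @Etale)]
    exact RingHom.etale_algebraMap.2 (etale_adjoinRoot (hG.map _) (hu j))
  · haveI : Module.Finite (A j) (AdjoinRoot (G.map (Pi.evalRingHom A j))) := (hG.map _).finite_adjoinRoot
    exact RingHom.IsIntegral.comap_surjective (RingHom.IsIntegral.of_finite (RingHom.finite_algebraMap.2 ‹_›))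
      (injective_of (hG.map _)) x
  · rw [← Functor.map_comp_assoc, hej, Functor.map_comp_assoc, hg₀ PUnit.unit, ← Functor.map_comp_assoc, hlj, ha]

/-- The gluing for presentations of the components by equal structure maps. -/
theorem exists_point_of_poly' [IsAffine S] [∀ j, HenselianLocalRing (A j)] {X : Sp S} (hX : IsAlgSpace X)
    (hqs : IsQuasiSeparatedSp X) {U : Over S} [IsAffine U.left] (φ : (yon S).obj U ⟶ X)
    (l : ∀ j, Spec (CommRingCat.of (A j)) ⟶ S) (e : ∀ j, leg (Pi.evalRingHom A) j ≫ h = l j)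
    (g : ∀ j, (yon S).obj (Over.mk (l j)) ⟶ X) {G : (∀ j, A j)[X]} (hG : G.Monic)
    (hd : ∀ j, Data φ (l j) (g j) (G.map (Pi.evalRingHom A j))) :
    ∃ g₀ : (yon S).obj (Over.mk h) ⟶ X,
      ∀ j, (yon S).map (Over.homMk (leg (Pi.evalRingHom A) j) (e j) : Over.mk (l j) ⟶ Over.mk h) ≫ g₀ = g j := by
  obtain rfl : (fun j => leg (Pi.evalRingHom A) j ≫ h) = l := funext e
  exact exists_point_of_poly h hX hqs φ g hG hd

/-- Restriction of a product along a map of index types. -/
abbrev restr {J' : Type u} (p : J' → J) : (∀ j, A j) →+* ∀ j', A (p j') :=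
  RingHom.pi fun j' => Pi.evalRingHom A (p j')

theorem leg_restr {J' : Type u} (p : J' → J) (j : J') :
    leg (Pi.evalRingHom fun j' => A (p j')) j ≫ Spec.map (CommRingCat.ofHom (restr p)) =
      leg (Pi.evalRingHom A) (p j) := by
  rw [← Spec.map_comp]
  rfl

/-- The inclusion of the part indexed by a fibre of a map of index types. -/
abbrev partT {K : Type u} (d : J → K) (i : K) :
    Over.mk (Spec.map (CommRingCat.ofHom (restr (A := A) fun j : {j // d j = i} => j.1)) ≫ h) ⟶ Over.mk h :=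
  Over.homMk (Spec.map (CommRingCat.ofHom (restr (A := A) fun j : {j // d j = i} => j.1))) rfl

/-- Maps from the parts of a finite partition glue. -/
theorem exists_glue_parts {X : Sp S} {K : Type u} [Finite K] (d : J → K)
    (c : ∀ i, (yon S).obj (Over.mk (Spec.map (CommRingCat.ofHom (restr (A := A) fun j : {j // d j = i} => j.1)) ≫ h)) ⟶ X) :
    ∃ g₀ : (yon S).obj (Over.mk h) ⟶ X, ∀ i, (yon S).map (partT h d i) ≫ g₀ = c i := by
  let Ai : K → CommRingCat.{u} := fun i => CommRingCat.of (∀ j : {j // d j = i}, A j.1)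
  let W : K → Over S := fun i => Over.mk (Spec.map (CommRingCat.ofHom (restr (A := A) fun j : {j // d j = i} => j.1)) ≫ h)
  let Φ : (∀ j, A j) →+* ∀ i, Ai i := RingHom.pi fun i => restr (A := A) fun j : {j // d j = i} => j.1
  have hΦ : Function.Bijective Φ := by
    refine ⟨fun x y e => funext fun j => congrFun (congrFun e (d j)) ⟨j, rfl⟩,
      fun t => ⟨fun j => t (d j) ⟨j, rfl⟩, funext fun i => funext fun j => ?_⟩⟩
    obtain ⟨j, rfl⟩ := j
    rfl
  haveI : IsIso (CommRingCat.ofHom Φ : CommRingCat.of (∀ j, A j) ⟶ CommRingCat.of (∀ i, Ai i)) :=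
    (ConcreteCategory.isIso_iff_bijective _).2 hΦ
  let e : (∐ fun i => Spec (Ai i)) ⟶ Spec (CommRingCat.of (∀ j, A j)) :=
    sigmaSpec Ai ≫ Spec.map (CommRingCat.ofHom Φ : CommRingCat.of (∀ j, A j) ⟶ CommRingCat.of (∀ i, Ai i))
  have he : ∀ i, Sigma.ι (fun i => Spec (Ai i)) i ≫ e =
      Spec.map (CommRingCat.ofHom (restr (A := A) fun j : {j // d j = i} => j.1)) := fun i => by
    show _ ≫ sigmaSpec Ai ≫ _ = _
    rw [ι_sigmaSpec_assoc, ← Spec.map_comp]
    rfl
  have heW : e ≫ h = Sigma.desc fun i => (W i).hom := Sigma.hom_ext _ _ fun i =>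
    ((Category.assoc _ _ _).symm.trans (congrArg (· ≫ h) (he i))).trans (Sigma.ι_desc (fun i => (W i).hom) i).symm
  obtain ⟨Cg, hCg⟩ := Groth.L09.UnivThick.exists_desc (U := W) c
  let σ : Over.mk h ⟶ Groth.L09.UnivThick.coprodOver W := Over.homMk (inv e) (by
    show inv e ≫ Sigma.desc (fun i => (W i).hom) = h
    exact (congrArg (inv e ≫ ·) heW.symm).trans (IsIso.inv_hom_id_assoc e h))
  refine ⟨(yon S).map σ ≫ Cg, fun i => ?_⟩
  have hi : partT h d i ≫ σ = Groth.L09.UnivThick.coprodIncl W i := Over.OverMorphism.ext (by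
    show Spec.map (CommRingCat.ofHom (restr (A := A) fun j : {j // d j = i} => j.1)) ≫ inv e =
      Sigma.ι (fun i => Spec (Ai i)) i
    rw [← he i, Category.assoc, IsIso.hom_inv_id, Category.comp_id])
  rw [← Functor.map_comp_assoc, hi, hCg]

/-- Points over henselian local rings glue to a point over the product. -/
theorem exists_point [IsAffine S] [∀ j, HenselianLocalRing (A j)] {X : Sp S} (hX : IsAlgSpace X)
    (hqc : IsQuasiCompactSp X) (hqs : IsQuasiSeparatedSp X)
    (g : ∀ j, (yon S).obj (Over.mk (leg (Pi.evalRingHom A) j ≫ h)) ⟶ X) :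
    ∃ g₀ : (yon S).obj (Over.mk h) ⟶ X, ∀ j, (yon S).map (evT h j) ≫ g₀ = g j := by
  classical
  obtain ⟨U, φ, hU, hφ, hφs⟩ := Filtration.exists_affine_atlas hqc
  haveI := hU
  have hφq : RepWith @QuasiCompact φ := repWith_quasiCompact hX hqs φ hφ.1
  obtain ⟨R, t, s, sq⟩ := exists_isPullback_of_representable hφ.1 φ
  haveI : Etale s.left := repWith_prop hφ sq
  haveI := isSeparated_rel sq
  haveI : IsSeparated s.left := IsSeparated.of_comp s.left (terminal.from U.left)
  let D : ∀ m, Tuples φ m := fun m => (exists_tuples sq m).some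
  obtain ⟨N, hN⟩ := exists_level_eq_empty hX hφ hφq D
  choose F hFm hFd hu hloc a ha using fun j => exists_lift_henselian hX hφ hφs D hN (A j)
    (leg (Pi.evalRingHom A) j ≫ h) (g j)
  let d : J → ULift.{u} (Fin (N + 1)) := fun j => ⟨⟨(F j).natDegree, Nat.lt_succ_of_le (hFd j)⟩⟩
  have he : ∀ i (j : {j // d j = i}), leg (Pi.evalRingHom fun j : {j // d j = i} => A j.1) j ≫
      Spec.map (CommRingCat.ofHom (restr (A := A) fun j : {j // d j = i} => j.1)) ≫ h =
        leg (Pi.evalRingHom A) j.1 ≫ h := fun i j =>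
    (Category.assoc _ _ _).symm.trans (congrArg (· ≫ h) (leg_restr (A := A) (fun j : {j // d j = i} => j.1) j))
  have hpiece : ∀ i, ∃ c : (yon S).obj (Over.mk (Spec.map (CommRingCat.ofHom
      (restr (A := A) fun j : {j // d j = i} => j.1)) ≫ h)) ⟶ X, ∀ j : {j // d j = i},
      (yon S).map (Over.homMk (leg (Pi.evalRingHom fun j : {j // d j = i} => A j.1) j) (he i j) :
        Over.mk (leg (Pi.evalRingHom A) j.1 ≫ h) ⟶
          Over.mk (Spec.map (CommRingCat.ofHom (restr (A := A) fun j : {j // d j = i} => j.1)) ≫ h)) ≫ c = g j.1 := fun i => by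
    obtain ⟨G, hG, hGF⟩ := exists_pi_monic (A := fun j : {j // d j = i} => A j.1) (fun j => F j.1) i.down.1
      (fun j => hFm j.1) (fun j => congrArg (fun t => t.down.1) j.2)
    exact exists_point_of_poly' _ hX hqs φ (fun j : {j // d j = i} => leg (Pi.evalRingHom A) j.1 ≫ h) (he i)
      (fun j => g j.1) hG fun j => (hGF j).symm ▸ (⟨hu j.1, hloc j.1, a j.1, ha j.1⟩ :
        Data φ (leg (Pi.evalRingHom A) j.1 ≫ h) (g j.1) (F j.1))
  choose c hc using hpiece
  obtain ⟨g₀, hg₀⟩ := exists_glue_parts h d c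
  refine ⟨g₀, fun j => ?_⟩
  have hj : (Over.homMk (leg (Pi.evalRingHom fun l : {l // d l = d j} => A l.1) ⟨j, rfl⟩) (he (d j) ⟨j, rfl⟩) :
      Over.mk (leg (Pi.evalRingHom A) j ≫ h) ⟶
        Over.mk (Spec.map (CommRingCat.ofHom (restr (A := A) fun l : {l // d l = d j} => l.1)) ≫ h)) ≫ partT h d (d j) = evT h j :=
    Over.OverMorphism.ext (leg_restr (A := A) (fun l : {l // d l = d j} => l.1) ⟨j, rfl⟩)
  rw [← hj, Functor.map_comp_assoc, hg₀]
  exact hc (d j) ⟨j, rfl⟩

end Groth.L09.PiHensel
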