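import Groth.Agent.L09.PiHensel.Scheme
import Groth.Agent.L05.Hensel.SecLift

/-!
# Lifting points over henselian local rings along an etale chart after a finite etale extension of bounded degree
-/

set_option autoImplicit false
set_option linter.style.haveILetI false
set_option backward.isDefEq.respectTransparency false
set_option backward.isDefEq.respectTransparency.types false
set_option maxHeartbeats 1000000

universe u

open CategoryTheory CategoryTheory.Limits AlgebraicGeometry AlgSp Polynomial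

noncomputable section

namespace Groth.L09.PiHensel

open Groth.L23 Groth.L09.Filtration

/-- A finite separable residue extension lifts to a monogenic local etale algebra. -/
theorem exists_lift_field {A : Type u} [CommRing A] [HenselianLocalRing A] {κ' : Type u} [Field κ']
    [Algebra (IsLocalRing.ResidueField A) κ'] [Module.Finite (IsLocalRing.ResidueField A) κ']
    [Algebra.IsSeparable (IsLocalRing.ResidueField A) κ'] :
    ∃ (F : A[X]) (_ : F.Monic) (_ : F.natDegree = Module.finrank (IsLocalRing.ResidueField A) κ'),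
      IsUnit (AdjoinRoot.mk F (derivative F)) ∧ ∃ (_ : IsLocalRing (AdjoinRoot F)) (ψ : AdjoinRoot F →+* κ'),
        Function.Surjective ψ ∧
          ψ.comp (AdjoinRoot.of F) = (algebraMap (IsLocalRing.ResidueField A) κ').comp (IsLocalRing.residue A) := by
  classical
  obtain ⟨x, hx⟩ := Field.exists_primitive_element (IsLocalRing.ResidueField A) κ'
  let k := IsLocalRing.ResidueField A
  have hint : IsIntegral k x := Algebra.IsIntegral.isIntegral x
  let f := minpoly k x
  have hlift : f ∈ Polynomial.lifts (IsLocalRing.residue A) := by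
    rw [Polynomial.lifts_iff_coeff_lifts]
    exact fun n => IsLocalRing.residue_surjective _
  obtain ⟨F, hFf, hFd, hFm⟩ := lifts_and_degree_eq_and_monic hlift (minpoly.monic hint)
  have hdeg : F.natDegree = Module.finrank k κ' := by
    rw [natDegree_eq_of_degree_eq hFd]
    exact (Field.primitive_element_iff_minpoly_natDegree_eq k x).1 hx
  let ρ := (algebraMap k κ').comp (IsLocalRing.residue A)
  have hev : ∀ p : A[X], p.eval₂ ρ x = aeval x (p.map (IsLocalRing.residue A)) := fun p => by
    rw [aeval_def, eval₂_map]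
  let ψ : AdjoinRoot F →+* κ' := AdjoinRoot.lift ρ x (by rw [hev, hFf]; exact minpoly.aeval k x)
  have hψm : ∀ p : A[X], ψ (AdjoinRoot.mk F p) = aeval x (p.map (IsLocalRing.residue A)) := fun p => by
    rw [AdjoinRoot.lift_mk, hev]
  have hψof : ψ.comp (AdjoinRoot.of F) = ρ := RingHom.ext fun a => by simp [ψ]
  have hψs : Function.Surjective ψ := fun y => by
    have hy : y ∈ Algebra.adjoin k ({x} : Set κ') := by
      rw [← IntermediateField.adjoin_simple_toSubalgebra_of_isAlgebraic hint.isAlgebraic, hx]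
      trivial
    obtain ⟨p, rfl⟩ := Algebra.adjoin_singleton_eq_range_aeval k x ▸ hy
    obtain ⟨q, rfl⟩ := Polynomial.map_surjective _ IsLocalRing.residue_surjective p
    exact ⟨AdjoinRoot.mk F q, hψm q⟩
  haveI : Module.Finite A (AdjoinRoot F) := hFm.finite_adjoinRoot
  haveI : Algebra.IsIntegral A (AdjoinRoot F) := Algebra.IsIntegral.of_finite A _
  let m := (IsLocalRing.maximalIdeal A).map (AdjoinRoot.of F)
  have hker : RingHom.ker ψ ≤ m := fun b hb => by
    obtain ⟨p, rfl⟩ := AdjoinRoot.mk_surjective b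
    rw [RingHom.mem_ker, hψm] at hb
    have h0 : (p %ₘ F).map (IsLocalRing.residue A) = 0 := by
      rw [map_modByMonic _ hFm, hFf, modByMonic_eq_zero_iff_dvd (minpoly.monic hint)]
      exact minpoly.dvd k x hb
    have h1 : AdjoinRoot.mk F p = AdjoinRoot.mk F (p %ₘ F) := by
      rw [AdjoinRoot.mk_eq_mk]
      exact ⟨p /ₘ F, by linear_combination -(modByMonic_add_div p F)⟩
    have h2 : p %ₘ F ∈ (IsLocalRing.maximalIdeal A).map C := Ideal.mem_map_C_iff.2 fun n => by
      rw [← IsLocalRing.residue_eq_zero_iff, ← coeff_map, h0, coeff_zero]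
    rw [h1]
    have h3 := Ideal.mem_map_of_mem (AdjoinRoot.mk F) h2
    rwa [Ideal.map_map] at h3
  have hmax : (RingHom.ker ψ).IsMaximal := RingHom.ker_isMaximal_of_surjective ψ hψs
  have huniq : ∀ P : Ideal (AdjoinRoot F), P.IsMaximal → P = RingHom.ker ψ := fun P hP => by
    haveI := hP
    have hP' : m ≤ P := Ideal.map_le_iff_le_comap.2
      (IsLocalRing.eq_maximalIdeal (Ideal.isMaximal_comap_of_isIntegral_of_isMaximal (R := A) P)).ge
    exact (hmax.eq_of_le hP.ne_top (hker.trans hP')).symm
  haveI hloc : IsLocalRing (AdjoinRoot F) := IsLocalRing.of_unique_max_ideal ⟨_, hmax, huniq⟩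
  refine ⟨F, hFm, hdeg, ?_, hloc, ψ, hψs, hψof⟩
  by_contra hu
  have : ψ (AdjoinRoot.mk F (derivative F)) = 0 := by
    have h' := (IsLocalRing.mem_maximalIdeal _).2 hu
    rwa [huniq _ (IsLocalRing.maximalIdeal.isMaximal _)] at h'
  rw [hψm, ← derivative_map, hFf] at this
  exact (Algebra.IsSeparable.isSeparable k x).aeval_derivative_ne_zero (minpoly.aeval k x) this

variable {S : Scheme.{u}} {X : Sp S} {U : Over S} {φ : (yon S).obj U ⟶ X}

/-- A field-valued point lifts along an etale chart over a finite separable extension, whose degree is bounded by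
the number of geometric lifts. -/
theorem exists_lift_residue [U.left.IsSeparated] (hX : IsAlgSpace X) (hφ : RepWith @Etale φ)
    (hs : RepWith @Surjective φ) (D : ∀ m, Tuples φ m) {N : ℕ} (hN : level φ D N = ∅) (k : Type u) [Field k]
    (w : Spec (CommRingCat.of k) ⟶ S) (q : (yon S).obj (Over.mk w) ⟶ X) :
    ∃ (κ' : Type u) (_ : Field κ') (_ : Algebra k κ'), Module.Finite k κ' ∧ Algebra.IsSeparable k κ' ∧
      Module.finrank k κ' ≤ N ∧
      ∃ a : Over.mk (Spec.map (CommRingCat.ofHom (algebraMap k κ')) ≫ w) ⟶ U,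
        (yon S).map a ≫ φ = (yon S).map (Over.homMk (Spec.map (CommRingCat.ofHom (algebraMap k κ'))) rfl :
          Over.mk (Spec.map (CommRingCat.ofHom (algebraMap k κ')) ≫ w) ⟶ Over.mk w) ≫ q := by
  classical
  obtain ⟨E, c, e, sE⟩ := exists_isPullback_of_representable (hX.representable_from_yon q) φ
  haveI : Etale c.left := repWith_prop hφ sE.flip
  haveI : Surjective c.left := repWith_prop hs sE.flip
  obtain ⟨p, -⟩ := c.left.surjective (IsLocalRing.closedPoint k)
  obtain ⟨_, ⟨W, hW, rfl⟩, hpW, -⟩ :=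
    E.left.isBasis_affineOpens.exists_subset_of_mem_open (Set.mem_univ p) isOpen_univ
  haveI := hW
  obtain ⟨α, hα⟩ := Spec.map_surjective (hW.fromSpec ≫ c.left)
  letI : Algebra k Γ(E.left, W) := α.hom.toAlgebra
  haveI : Algebra.Etale k Γ(E.left, W) := by
    rw [← RingHom.etale_algebraMap, RingHom.algebraMap_toAlgebra, ← HasRingHomProperty.Spec_iff (P := @Etale), hα]
    infer_instance
  haveI : Nonempty ↥(Spec Γ(E.left, W)) := ⟨(hW.isoSpec.hom) ⟨p, hpW⟩⟩
  haveI : Nontrivial Γ(E.left, W) := PrimeSpectrum.nonempty_iff_nontrivial.1 ‹_›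
  obtain ⟨M, hM⟩ := Ideal.exists_maximal Γ(E.left, W)
  haveI := hM
  letI : Field (Γ(E.left, W) ⧸ M) := Ideal.Quotient.field M
  haveI : Module.Finite k Γ(E.left, W) := Algebra.FormallyUnramified.finite_of_free k _
  haveI : Module.Finite k (Γ(E.left, W) ⧸ M) := inferInstance
  haveI : Algebra.FormallyUnramified k (Γ(E.left, W) ⧸ M) := inferInstance
  haveI : Algebra.IsSeparable k (Γ(E.left, W) ⧸ M) := Algebra.FormallyUnramified.isSeparable k _
  let κ' := Γ(E.left, W) ⧸ M
  let mk' : Γ(E.left, W) ⟶ CommRingCat.of κ' := CommRingCat.ofHom (Ideal.Quotient.mk M)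
  have hmk : α ≫ mk' = CommRingCat.ofHom (algebraMap k κ') := rfl
  let pt : Spec (CommRingCat.of κ') ⟶ E.left := Spec.map mk' ≫ hW.fromSpec
  have hpt : pt ≫ c.left = Spec.map (CommRingCat.ofHom (algebraMap k κ')) := by
    rw [Category.assoc, ← hα, ← Spec.map_comp, hmk]
  let j : Over.mk (Spec.map (CommRingCat.ofHom (algebraMap k κ')) ≫ w) ⟶ E := Over.homMk pt (by
    rw [← Over.w c, ← Category.assoc, hpt]; rfl)
  have hj : j ≫ c = Over.homMk (Spec.map (CommRingCat.ofHom (algebraMap k κ'))) rfl := Over.OverMorphism.ext hpt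
  refine ⟨κ', inferInstance, inferInstance, inferInstance, inferInstance, ?_, j ≫ e, ?_⟩
  · let K := AlgebraicClosure k
    let ι := Spec.map (CommRingCat.ofHom (algebraMap k K))
    let T : Over S := Over.mk (ι ≫ w)
    let qK : (yon S).obj T ⟶ X := (yon S).map (Over.homMk ι rfl : T ⟶ Over.mk w) ≫ q
    have hι : ∀ σ : κ' →ₐ[k] K, Spec.map (CommRingCat.ofHom σ.toRingHom) ≫
        Spec.map (CommRingCat.ofHom (algebraMap k κ')) = ι := fun σ => by
      rw [← Spec.map_comp, ← CommRingCat.ofHom_comp]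
      exact congrArg (fun f => Spec.map (CommRingCat.ofHom f)) σ.comp_algebraMap
    let r : (κ' →ₐ[k] K) → (T ⟶ E) := fun σ => (Over.homMk (Spec.map (CommRingCat.ofHom σ.toRingHom))
      (by show _ ≫ _ ≫ w = ι ≫ w; rw [← Category.assoc, hι]) :
        T ⟶ Over.mk (Spec.map (CommRingCat.ofHom (algebraMap k κ')) ≫ w)) ≫ j
    have hrc : ∀ σ, r σ ≫ c = Over.homMk ι rfl := fun σ => by
      rw [Category.assoc, hj]; exact Over.OverMorphism.ext (hι σ)
    let l : (κ' →ₐ[k] K) → Lift φ qK := fun σ => ⟨r σ ≫ e, by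
      rw [Functor.map_comp, Category.assoc, ← sE.w, ← Functor.map_comp_assoc, hrc]⟩
    have hl : Function.Injective l := fun σ τ h => by
      have he : r σ ≫ e = r τ ≫ e := congrArg Subtype.val h
      have hr : r σ = r τ := (yon S).map_injective (sE.hom_ext
        (by rw [← Functor.map_comp, ← Functor.map_comp, hrc, hrc])
        (by rw [← Functor.map_comp, ← Functor.map_comp, he]))
      have hr' : Spec.map (CommRingCat.ofHom σ.toRingHom) ≫ pt = Spec.map (CommRingCat.ofHom τ.toRingHom) ≫ pt :=
        congrArg CommaMorphism.left hr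
      rw [← Category.assoc, ← Category.assoc, cancel_mono, ← Spec.map_comp, ← Spec.map_comp] at hr'
      refine AlgHom.ext fun y => ?_
      obtain ⟨z, rfl⟩ := Ideal.Quotient.mk_surjective y
      exact congrArg (fun f => f.hom z) (Spec.map_injective hr')
    by_contra hcon
    rw [← AlgHom.card k κ' K, not_le] at hcon
    have hmem : Points.ofPt qK (IsLocalRing.closedPoint K) ∈ level φ D N :=
      (mem_level_iff hφ D N qK (IsLocalRing.closedPoint K)).2
        ⟨fun i => l ((Fintype.equivFin (κ' →ₐ[k] K)).symm (Fin.castLE (Nat.succ_le_of_lt hcon) i)),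
          fun i i' h => by simpa using hl h⟩
    rw [hN] at hmem
    exact hmem
  · rw [Functor.map_comp, Category.assoc, ← sE.w, ← Functor.map_comp_assoc, hj]

/-- A point over a henselian local ring lifts along an etale chart after a monogenic local etale extension of
bounded degree. -/
theorem exists_lift_henselian [U.left.IsSeparated] (hX : IsAlgSpace X) (hφ : RepWith @Etale φ)
    (hs : RepWith @Surjective φ) (D : ∀ m, Tuples φ m) {N : ℕ} (hN : level φ D N = ∅) (A : Type u) [CommRing A]
    [HenselianLocalRing A] (w : Spec (CommRingCat.of A) ⟶ S) (g : (yon S).obj (Over.mk w) ⟶ X) :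
    ∃ (F : A[X]) (_ : F.Monic), F.natDegree ≤ N ∧ IsUnit (AdjoinRoot.mk F (derivative F)) ∧
      IsLocalRing (AdjoinRoot F) ∧
      ∃ a : Over.mk (Spec.map (CommRingCat.ofHom (AdjoinRoot.of F)) ≫ w) ⟶ U,
        (yon S).map a ≫ φ = (yon S).map (Over.homMk (Spec.map (CommRingCat.ofHom (AdjoinRoot.of F))) rfl :
          Over.mk (Spec.map (CommRingCat.ofHom (AdjoinRoot.of F)) ≫ w) ⟶ Over.mk w) ≫ g := by
  let res := Spec.map (CommRingCat.ofHom (IsLocalRing.residue A))
  obtain ⟨κ', _, _, _, _, hle, a₀, ha₀⟩ := exists_lift_residue hX hφ hs D hN (IsLocalRing.ResidueField A)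
    (res ≫ w) ((yon S).map (Over.homMk res rfl : Over.mk (res ≫ w) ⟶ Over.mk w) ≫ g)
  obtain ⟨F, hF, hdeg, hu, hloc, ψ, hψ, hψof⟩ := exists_lift_field (A := A) (κ' := κ')
  haveI := hloc
  haveI : Module.Finite A (AdjoinRoot F) := hF.finite_adjoinRoot
  haveI : HenselianLocalRing (AdjoinRoot F) := Groth.L05.henselianLocalRing_of_finite (A := A) _
  refine ⟨F, hF, hdeg.le.trans hle, hu, hloc, ?_⟩
  let b := Spec.map (CommRingCat.ofHom (AdjoinRoot.of F))
  let TB : Over S := Over.mk (b ≫ w)
  let bT : TB ⟶ Over.mk w := Over.homMk b rfl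
  let gB : (yon S).obj TB ⟶ X := (yon S).map bT ≫ g
  obtain ⟨P, c, e, sP⟩ := exists_isPullback_of_representable (hX.representable_from_yon gB) φ
  haveI : Etale c.left := repWith_prop hφ sP.flip
  let p := Spec.map (CommRingCat.ofHom ψ)
  let alg := Spec.map (CommRingCat.ofHom (algebraMap (IsLocalRing.ResidueField A) κ'))
  have hp : p ≫ b = alg ≫ res := by
    rw [← Spec.map_comp, ← Spec.map_comp, ← CommRingCat.ofHom_comp, ← CommRingCat.ofHom_comp, hψof]
  let pT : Over.mk (alg ≫ res ≫ w) ⟶ TB := Over.homMk p (by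
    show p ≫ b ≫ w = alg ≫ res ≫ w
    rw [← Category.assoc, hp, Category.assoc])
  obtain ⟨r, hr1, hr2⟩ := exists_lift_yon sP pT a₀ (by
    rw [ha₀]
    refine ((yon S).map_comp_assoc pT bT g).symm.trans (Eq.trans ?_ ((yon S).map_comp_assoc _ _ g))
    congr 2
    exact Over.OverMorphism.ext hp)
  let ε : IsLocalRing.ResidueField (AdjoinRoot F) ≃+* κ' :=
    (Ideal.quotEquivOfEq (IsLocalRing.ker_eq_maximalIdeal ψ hψ).symm).trans
      (RingHom.quotientKerEquivOfSurjective hψ)
  have hε : ε.toRingHom.comp (IsLocalRing.residue (AdjoinRoot F)) = ψ := RingHom.ext fun y => rfl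
  let u₀ := Spec.map (CommRingCat.ofHom ε.symm.toRingHom) ≫ r.left
  obtain ⟨u, hu1, -⟩ := Groth.L05.SecLift.exists_section (A := AdjoinRoot F) c.left u₀ (by
    show (Spec.map (CommRingCat.ofHom ε.symm.toRingHom) ≫ r.left) ≫ c.left = _
    rw [Category.assoc, ← Over.comp_left, hr1]
    show _ ≫ p = _
    rw [← Spec.map_comp, ← CommRingCat.ofHom_comp, ← hε, ← RingHom.comp_assoc]
    simp)
  let uT : TB ⟶ P := Over.homMk u (by
    rw [← Over.w c, ← Category.assoc, hu1]
    exact Category.id_comp _)
  have huT : uT ≫ c = 𝟙 TB := Over.OverMorphism.ext hu1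
  refine ⟨uT ≫ e, ?_⟩
  rw [Functor.map_comp, Category.assoc, ← sP.w, ← Functor.map_comp_assoc, huT, CategoryTheory.Functor.map_id]
  exact Category.id_comp _

end Groth.L09.PiHensel
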