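import Groth.Agent.L05.Hensel.Product
import Mathlib.RingTheory.Etale.StandardEtale
import Mathlib.RingTheory.TensorProduct.Free

/-!
# Free algebras of bounded rank over products of henselian local rings
-/

set_option autoImplicit false
set_option linter.style.haveILetI false

universe u

open Polynomial TensorProduct

namespace Groth.L09.PiHensel

section AdjoinRoot

variable {J : Type u} {A : J → Type u} [∀ j, CommRing (A j)]

/-- A monic polynomial over a product with prescribed monic components of equal degree. -/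
theorem exists_pi_monic (F : ∀ j, (A j)[X]) (m : ℕ) (hF : ∀ j, (F j).Monic) (hd : ∀ j, (F j).natDegree = m) :
    ∃ G : (∀ j, A j)[X], G.Monic ∧ ∀ j, G.map (Pi.evalRingHom A j) = F j := by
  refine ⟨X ^ m + ∑ k ∈ Finset.range m, C (fun j => (F j).coeff k) * X ^ k, ?_, fun j => ?_⟩
  · refine monic_X_pow_add ((degree_lt_iff_coeff_zero _ _).2 fun n hn => ?_)
    simp [Polynomial.finsetSum_coeff, Finset.mem_range, Nat.not_lt.2 hn]
  · conv_rhs => rw [(hF j).as_sum]
    simp [Polynomial.map_add, Polynomial.map_sum, Polynomial.map_mul, hd j]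

/-- Components of the algebra generated by a root of a polynomial over a product. -/
noncomputable def comp (G : (∀ j, A j)[X]) (j : J) : AdjoinRoot G →+* AdjoinRoot (G.map (Pi.evalRingHom A j)) :=
  AdjoinRoot.lift ((AdjoinRoot.of _).comp (Pi.evalRingHom A j)) (AdjoinRoot.root _) (by
    rw [← eval₂_map]; exact AdjoinRoot.eval₂_root _)

@[simp] theorem comp_root (G : (∀ j, A j)[X]) (j : J) : comp G j (AdjoinRoot.root G) = AdjoinRoot.root _ := by
  simp [comp]

@[simp] theorem comp_of (G : (∀ j, A j)[X]) (j : J) (x : ∀ j, A j) :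
    comp G j (AdjoinRoot.of G x) = AdjoinRoot.of _ (x j) := by
  simp [comp]

theorem comp_mk (G : (∀ j, A j)[X]) (j : J) (p : (∀ j, A j)[X]) :
    comp G j (AdjoinRoot.mk G p) = AdjoinRoot.mk _ (p.map (Pi.evalRingHom A j)) := by
  have : (comp G j).comp (AdjoinRoot.mk G) = (AdjoinRoot.mk _).comp (mapRingHom (Pi.evalRingHom A j)) := by
    refine Polynomial.ringHom_ext (fun a => ?_) ?_
    · simp
    · simp
  exact RingHom.congr_fun this p

/-- The algebra generated by a root of a monic polynomial over a product is the product of the components. -/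
theorem bijective_comp {G : (∀ j, A j)[X]} (hG : G.Monic) :
    Function.Bijective fun (x : AdjoinRoot G) j => comp G j x := by
  refine ⟨fun x y h => ?_, fun y => ?_⟩
  · obtain ⟨p, hp⟩ := AdjoinRoot.mk_surjective (x - y)
    have hp0 : ∀ j, p.map (Pi.evalRingHom A j) %ₘ G.map (Pi.evalRingHom A j) = 0 := fun j => by
      refine ((modByMonic_eq_zero_iff_dvd (hG.map _)).2 ?_)
      rw [← AdjoinRoot.mk_eq_zero, ← comp_mk, hp, map_sub, sub_eq_zero]
      exact congrFun h j
    have : p %ₘ G = 0 := Polynomial.ext fun n => funext fun j => by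
      have := congrArg (fun q => coeff q n) (hp0 j)
      rw [← map_modByMonic _ hG] at this
      simpa using this
    rw [← sub_eq_zero, ← hp, AdjoinRoot.mk_eq_zero, ← modByMonic_eq_zero_iff_dvd hG]
    exact this
  · choose p hp using fun j => AdjoinRoot.mk_surjective (y j)
    let q := fun j => p j %ₘ G.map (Pi.evalRingHom A j)
    refine ⟨AdjoinRoot.mk G (∑ k ∈ Finset.range (G.natDegree + 1), C (fun j => (q j).coeff k) * X ^ k),
      funext fun j => ?_⟩
    show comp G j _ = y j
    have hq : (∑ k ∈ Finset.range (G.natDegree + 1), C (fun j => (q j).coeff k) * X ^ k).map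
        (Pi.evalRingHom A j) = q j := by
      rw [Polynomial.map_sum]
      simp only [Polynomial.map_mul, Polynomial.map_pow, map_C, map_X, Pi.evalRingHom_apply]
      refine ((q j).as_sum_range_C_mul_X_pow' (Nat.lt_succ_of_le ?_)).symm
      exact (natDegree_modByMonic_le _ (hG.map _)).trans natDegree_map_le
    rw [comp_mk, hq, ← hp j, AdjoinRoot.mk_eq_mk]
    exact ⟨-(p j /ₘ G.map (Pi.evalRingHom A j)), by
      linear_combination (modByMonic_add_div (p j) (G.map (Pi.evalRingHom A j)))⟩

/-- A map out of the algebra over the product whose restriction factors through a component factors through it. -/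
theorem exists_factor {G : (∀ j, A j)[X]} {j : J} {L : Type u} [CommRing L] (h : AdjoinRoot G →+* L)
    (γ : A j →+* L) (w : h.comp (AdjoinRoot.of G) = γ.comp (Pi.evalRingHom A j)) :
    ∃ h' : AdjoinRoot (G.map (Pi.evalRingHom A j)) →+* L,
      h'.comp (AdjoinRoot.of _) = γ ∧ h'.comp (comp G j) = h := by
  refine ⟨AdjoinRoot.lift γ (h (AdjoinRoot.root G)) ?_, ?_, ?_⟩
  · rw [eval₂_map, ← w, ← hom_eval₂, AdjoinRoot.eval₂_root, map_zero]
  · ext a; simp
  · refine RingHom.ext fun x => ?_
    obtain ⟨p, rfl⟩ := AdjoinRoot.mk_surjective x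
    rw [RingHom.comp_apply, comp_mk, AdjoinRoot.lift_mk, eval₂_map, ← w, ← hom_eval₂,
      show eval₂ (AdjoinRoot.of G) (AdjoinRoot.root G) p = AdjoinRoot.mk G p from AdjoinRoot.aeval_eq p]

end AdjoinRoot

/-- A monic polynomial with invertible derivative gives an etale algebra. -/
theorem etale_adjoinRoot {R : Type u} [CommRing R] {f : R[X]} (hf : f.Monic)
    (hu : IsUnit (AdjoinRoot.mk f (derivative f))) : Algebra.Etale R (AdjoinRoot f) := by
  obtain ⟨v, hv⟩ := hu.exists_right_inv
  obtain ⟨p, rfl⟩ := AdjoinRoot.mk_surjective v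
  rw [← map_mul, ← map_one (AdjoinRoot.mk f), AdjoinRoot.mk_eq_mk] at hv
  obtain ⟨q, hq⟩ := hv
  let P : StandardEtalePair R := ⟨f, hf, 1, p, -q, 1, by linear_combination hq⟩
  haveI : IsLocalization.Away (AdjoinRoot.mk P.f P.g) (AdjoinRoot P.f) :=
    IsLocalization.away_of_isUnit_of_bijective _ (by rw [show P.g = 1 from rfl, map_one]; exact isUnit_one)
      Function.bijective_id
  exact Algebra.Etale.of_equiv (P.equivAwayAdjoinRoot.trans
    ((IsLocalization.algEquiv (Submonoid.powers (AdjoinRoot.mk P.f P.g)) _ (AdjoinRoot P.f)).restrictScalars R))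

section Free

variable {J : Type u} {A : J → Type u} [∀ j, CommRing (A j)]

/-- A finite free algebra over a product of henselian local rings is a product of local rings, each lying over
one of the factors. -/
theorem exists_local_family [∀ j, HenselianLocalRing (A j)] (C : Type u) [CommRing C] [Algebra (∀ j, A j) C]
    {κ : Type u} [Fintype κ] (b : Module.Basis κ (∀ j, A j) C) :
    ∃ (K : Type u) (idx : K → J) (L : K → Type u) (_ : ∀ k, CommRing (L k)) (_ : ∀ k, IsLocalRing (L k))
      (π : ∀ k, C →+* L k),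
      Function.Bijective (fun c k => π k c) ∧
      ∀ k, ∃ γ : A (idx k) →+* L k, (π k).comp (algebraMap (∀ j, A j) C) = γ.comp (Pi.evalRingHom A (idx k)) := by
  classical
  letI alg : ∀ j, Algebra (∀ j, A j) (A j) := fun j => (Pi.evalRingHom A j).toAlgebra
  have hbij : Function.Bijective fun (c : C) j => ((1 : A j) ⊗ₜ[∀ j, A j] c) := by
    refine ⟨fun x y h => b.ext_elem fun i => funext fun j => ?_, fun y => ?_⟩
    · have := congrArg (fun z => (b.baseChange (A j)).repr z i) (congrFun h j)
      simp [RingHom.algebraMap_toAlgebra, Algebra.smul_def] at this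
      exact this
    · refine ⟨∑ i, (fun j => (b.baseChange (A j)).repr (y j) i) • b i, funext fun j => ?_⟩
      refine (b.baseChange (A j)).ext_elem fun i => ?_
      dsimp only
      rw [Module.Basis.baseChange_repr_tmul, b.repr_sum_self]
      simp [RingHom.algebraMap_toAlgebra, Algebra.smul_def]
  haveI : ∀ j, Module.Finite (A j) ((A j) ⊗[∀ j, A j] C) := fun j => Module.Finite.of_basis (b.baseChange (A j))
  choose σ hσ L hL hloc e using fun j =>
    Groth.L05.exists_ringEquiv_pi_of_finite (A := A j) ((A j) ⊗[∀ j, A j] C)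
  letI := fun j => hL j
  let E := fun j => (e j).some
  let incl : ∀ j, C →+* (A j) ⊗[∀ j, A j] C := fun j => (Algebra.TensorProduct.includeRight (R := ∀ j, A j)).toRingHom
  refine ⟨Σ j, σ j, Sigma.fst, fun k => L k.1 k.2, fun k => hL k.1 k.2, fun k => hloc k.1 k.2,
    fun k => ((Pi.evalRingHom (L k.1) k.2).comp (E k.1).toRingHom).comp (incl k.1), ⟨fun x y h => ?_, fun y => ?_⟩,
    fun k => ⟨((Pi.evalRingHom (L k.1) k.2).comp (E k.1).toRingHom).comp Algebra.TensorProduct.includeLeftRingHom, ?_⟩⟩
  · exact hbij.1 (funext fun j => (E j).injective (funext fun l => congrFun h ⟨j, l⟩))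
  · obtain ⟨c, hc⟩ := hbij.2 fun j => (E j).symm fun l => y ⟨j, l⟩
    refine ⟨c, funext fun k => ?_⟩
    show E k.1 ((1 : A k.1) ⊗ₜ c) k.2 = y k
    rw [show ((1 : A k.1) ⊗ₜ[∀ j, A j] c) = (E k.1).symm fun l => y ⟨k.1, l⟩ from congrFun hc k.1,
      RingEquiv.apply_symm_apply]
  · refine RingHom.ext fun x => ?_
    show E k.1 ((1 : A k.1) ⊗ₜ algebraMap (∀ j, A j) C x) k.2 = E k.1 ((x k.1) ⊗ₜ (1 : C)) k.2
    rw [Algebra.algebraMap_eq_smul_one, TensorProduct.tmul_smul, TensorProduct.smul_tmul', Algebra.smul_def,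
      mul_one, RingHom.algebraMap_toAlgebra]
    rfl

end Free

end Groth.L09.PiHensel
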