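import Groth.Agent.L09.PiHensel.Ring
import Groth.Agent.L09.Filtration.Main

/-!
# Morphisms out of the spectrum of a product of local rings
-/

set_option autoImplicit false
set_option linter.style.haveILetI false
set_option backward.isDefEq.respectTransparency false
set_option backward.isDefEq.respectTransparency.types false

universe u

open CategoryTheory CategoryTheory.Limits AlgebraicGeometry AlgSp

noncomputable section

namespace Groth.L09.PiHensel

open Groth.L23

variable {C : Type u} [CommRing C] {K : Type u} {L : K → Type u} [∀ k, CommRing (L k)]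
  (π : ∀ k, C →+* L k)

/-- The map from the spectrum of a component. -/
abbrev leg (k : K) : Spec (CommRingCat.of (L k)) ⟶ Spec (CommRingCat.of C) :=
  Spec.map (CommRingCat.ofHom (π k))

/-- Morphisms to affine schemes are determined on the components. -/
theorem ext_affine (hπ : Function.Injective fun c k => π k c) {Z : Scheme.{u}} [IsAffine Z]
    (a b : Spec (CommRingCat.of C) ⟶ Z) (h : ∀ k, leg π k ≫ a = leg π k ≫ b) : a = b := by
  rw [← cancel_mono Z.isoSpec.hom]
  obtain ⟨α, hα⟩ := Spec.map_surjective (a ≫ Z.isoSpec.hom)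
  obtain ⟨β, hβ⟩ := Spec.map_surjective (b ≫ Z.isoSpec.hom)
  rw [← hα, ← hβ]
  refine congrArg Spec.map (CommRingCat.hom_ext (RingHom.ext fun x => hπ (funext fun k => ?_)))
  have e : Spec.map (α ≫ CommRingCat.ofHom (π k)) = Spec.map (β ≫ CommRingCat.ofHom (π k)) := by
    rw [Spec.map_comp, Spec.map_comp, hα, hβ, ← Category.assoc, ← Category.assoc]
    exact congrArg (· ≫ Z.isoSpec.hom) (h k)
  exact congrArg (fun f => f.hom x) (Spec.map_injective e)

/-- Compatible maps from the components to a quasi-compact scheme come from the product. -/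
theorem exists_map [∀ k, IsLocalRing (L k)] (hπ : Function.Bijective fun c k => π k c) {Z : Scheme.{u}}
    [CompactSpace Z] (z : ∀ k, Spec (CommRingCat.of (L k)) ⟶ Z) :
    ∃ w : Spec (CommRingCat.of C) ⟶ Z, ∀ k, leg π k ≫ w = z k := by
  classical
  obtain ⟨s, hs⟩ := isCompact_univ.elim_finite_subcover (fun U : Z.affineOpens => ((U.1 : Z.Opens) : Set Z))
    (fun U => U.1.2) (fun x _ => by
      obtain ⟨_, ⟨U, hU, rfl⟩, hxU, -⟩ := Z.isBasis_affineOpens.exists_subset_of_mem_open (Set.mem_univ x) isOpen_univ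
      exact Set.mem_iUnion.2 ⟨⟨U, hU⟩, hxU⟩)
  have hl : ∀ k, ∃ l : ↥s, Set.range (z k) ⊆ ((l.1.1 : Z.Opens) : Set Z) := fun k => by
    obtain ⟨U, hU, hx⟩ := Set.mem_iUnion₂.1 (hs (Set.mem_univ (z k (IsLocalRing.closedPoint (L k)))))
    refine ⟨⟨U, hU⟩, ?_⟩
    rintro _ ⟨p, rfl⟩
    exact ((IsLocalRing.specializes_closedPoint p).map (z k).continuous).mem_open U.1.2 hx
  choose l hl using hl
  let F : ↥s → CommRingCat.{u} := fun i => CommRingCat.of (∀ k : {k // l k = i}, L k.1)
  let y : ∀ k, Spec (CommRingCat.of (L k)) ⟶ ((l k).1.1 : Scheme.{u}) := fun k =>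
    IsOpenImmersion.lift (l k).1.1.ι (z k) (by rw [Scheme.Opens.range_ι]; exact hl k)
  have hy : ∀ k, y k ≫ (l k).1.1.ι = z k := fun k => IsOpenImmersion.lift_fac _ _ _
  have hv : ∀ i, ∃ v : Spec (F i) ⟶ Z, ∀ k : {k // l k = i},
      Spec.map (CommRingCat.ofHom (Pi.evalRingHom (fun k : {k // l k = i} => L k.1) k)) ≫ v = z k.1 := by
    intro i
    haveI : IsAffine (i.1.1 : Scheme.{u}) := i.1.2
    have hy' : ∀ k : {k // l k = i}, ∃ y' : Spec (CommRingCat.of (L k.1)) ⟶ (i.1.1 : Scheme.{u}),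
        y' ≫ i.1.1.ι = z k.1 := by
      rintro ⟨k, rfl⟩
      exact ⟨y k, hy k⟩
    choose y' hy' using hy'
    choose α hα using fun k => Spec.map_surjective (y' k ≫ (i.1.1 : Scheme.{u}).isoSpec.hom)
    refine ⟨Spec.map (CommRingCat.ofHom (RingHom.pi fun k => (α k).hom)) ≫ (i.1.1 : Scheme.{u}).isoSpec.inv ≫
      i.1.1.ι, fun k => ?_⟩
    rw [← Spec.map_comp_assoc, show CommRingCat.ofHom (RingHom.pi fun k => (α k).hom) ≫
      CommRingCat.ofHom (Pi.evalRingHom (fun k : {k // l k = i} => L k.1) k) = α k from rfl, hα, Category.assoc,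
      Iso.hom_inv_id_assoc, hy']
  choose v hv using hv
  let Φ : C →+* ∀ i, F i := RingHom.pi fun i => RingHom.pi fun k => π k.1
  have hΦ : Function.Bijective Φ := by
    refine ⟨fun a b h => hπ.1 (funext fun k => ?_), fun t => ?_⟩
    · exact congrFun (congrFun h (l k)) ⟨k, rfl⟩
    · obtain ⟨c, hc⟩ := hπ.2 fun k => t (l k) ⟨k, rfl⟩
      refine ⟨c, funext fun i => funext fun k => ?_⟩
      obtain ⟨k, rfl⟩ := k
      exact congrFun hc k
  let e : CommRingCat.of C ≅ CommRingCat.of (∀ i, F i) := (RingEquiv.ofBijective Φ hΦ).toCommRingCatIso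
  refine ⟨Spec.map e.inv ≫ inv (sigmaSpec F) ≫ Sigma.desc v, fun k => ?_⟩
  have : leg π k ≫ Spec.map e.inv =
      Spec.map (CommRingCat.ofHom (Pi.evalRingHom (fun j : {j // l j = l k} => L j.1) ⟨k, rfl⟩)) ≫
        Sigma.ι (fun i => Spec (F i)) (l k) ≫ sigmaSpec F := by
    rw [ι_sigmaSpec, ← Spec.map_comp, ← Spec.map_comp]
    congr 1
    rw [Iso.inv_comp_eq]
    rfl
  rw [reassoc_of% this, IsIso.hom_inv_id_assoc, Sigma.ι_desc, hv]

variable {S : Scheme.{u}}

/-- Morphisms to a quasi-separated space are determined on the components. -/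
theorem ext_space [IsAffine S] [∀ k, IsLocalRing (L k)] (hπ : Function.Bijective fun c k => π k c) {X : Sp S}
    (hX : IsAlgSpace X) (hqs : IsQuasiSeparatedSp X) (h : Spec (CommRingCat.of C) ⟶ S)
    (g g' : (yon S).obj (Over.mk h) ⟶ X)
    (e : ∀ k, (yon S).map (Over.homMk (leg π k) rfl : Over.mk (leg π k ≫ h) ⟶ Over.mk h) ≫ g =
      (yon S).map (Over.homMk (leg π k) rfl : Over.mk (leg π k ≫ h) ⟶ Over.mk h) ≫ g') : g = g' := by
  let T : Over S := Over.mk h
  let Z : Over S := hX.diag.pullback (prod.lift g g')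
  let a : (yon S).obj Z ⟶ X := hX.diag.fst (prod.lift g g')
  let i : Z ⟶ T := hX.diag.snd (prod.lift g g')
  have sq : IsPullback a ((yon S).map i) (Limits.diag X) (prod.lift g g') := hX.diag.isPullback _
  haveI : QuasiCompact i.left := hqs.property _ _ _ sq
  haveI : CompactSpace T.left := inferInstanceAs (CompactSpace (Spec (CommRingCat.of C)))
  haveI : CompactSpace Z.left := QuasiCompact.compactSpace_of_compactSpace i.left
  have ha1 : a = (yon S).map i ≫ g := by simpa using sq.w =≫ prod.fst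
  have ha2 : a = (yon S).map i ≫ g' := by simpa using sq.w =≫ prod.snd
  have hz : ∀ k, ∃ z : Over.mk (leg π k ≫ h) ⟶ Z, z ≫ i = Over.homMk (leg π k) rfl := fun k => by
    let r := sq.lift ((yon S).map (Over.homMk (leg π k) rfl : Over.mk (leg π k ≫ h) ⟶ T) ≫ g)
      ((yon S).map (Over.homMk (leg π k) rfl)) (by
        refine prod.hom_ext ?_ ?_ <;> simp [e k, T])
    refine ⟨(yon S).preimage r, (yon S).map_injective ?_⟩
    rw [Functor.map_comp, Functor.map_preimage]
    exact sq.lift_snd _ _ _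
  choose z hz using hz
  obtain ⟨w, hw⟩ := exists_map π hπ fun k => (z k).left
  have hwi : w ≫ i.left = 𝟙 _ := by
    refine ext_affine π hπ.1 (Z := Spec (CommRingCat.of C)) _ _ fun k => ?_
    rw [← Category.assoc, hw, Category.comp_id]
    exact congrArg CommaMorphism.left (hz k)
  let σ : T ⟶ Z := Over.homMk w (by rw [← Over.w i, ← Category.assoc, hwi]; exact Category.id_comp _)
  have hσ : σ ≫ i = 𝟙 T := Over.OverMorphism.ext hwi
  calc g = (yon S).map (σ ≫ i) ≫ g := by rw [hσ, CategoryTheory.Functor.map_id, Category.id_comp]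
    _ = (yon S).map (σ ≫ i) ≫ g' := by rw [Functor.map_comp_assoc, Functor.map_comp_assoc, ← ha1, ← ha2]
    _ = g' := by rw [hσ, CategoryTheory.Functor.map_id, Category.id_comp]

end Groth.L09.PiHensel
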